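import Groth.Agent.Div89.SubProj.Sec
import Groth.Agent.EGAProj74.GradedKer
import Groth.Agent.EGA73.RelVanish
import Mathlib.RingTheory.GradedAlgebra.Radical

/-!
The homogeneous ideal of a closed subscheme of a relative Proj with quasi-compact structure map.
-/

set_option autoImplicit false
set_option backward.isDefEq.respectTransparency.types false

universe u

open CategoryTheory CategoryTheory.Limits AlgebraicGeometry TopologicalSpace Opposite
open scoped HomogeneousIdeal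

noncomputable section

namespace Groth.Agent.Div89.SubProj

open Var76.ZeroScheme EGAProj74 EGA73.GrFr EGA73.RelVanish

variable {S P Z : Scheme.{u}} {𝒮 : RelProj.QCGrAlg S} {p : P ⟶ S}
  {chart : ∀ (U : S.Opens) (hU : IsAffineOpen U), (((p ⁻¹ᵁ U : P.Opens) : Scheme.{u}) ≅ Proj (𝒮.deg U hU))}
  (hP : RelProj.IsRelProj 𝒮 p chart) (i : Z ⟶ P)

variable {U : S.Opens} (hU : IsAffineOpen U)

variable (chart) in
/-- `x / t ^ k` vanishes on the subscheme. -/
def GVan {t : 𝒮.presheaf.obj (op U)} {m : ℕ} (ht : t ∈ 𝒮.deg U hU m) (hm : 0 < m) {k : ℕ}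
    {x : 𝒮.presheaf.obj (op U)} (hx : x ∈ 𝒮.deg U hU (k * m)) : Prop :=
  i.app (dOpen chart hU t) (gsec chart hU ht hm hx) = 0

variable (chart) in
/-- The numerators of the vanishing fractions. -/
def gens {t : 𝒮.presheaf.obj (op U)} {m : ℕ} (ht : t ∈ 𝒮.deg U hU m) (hm : 0 < m) :
    Set (𝒮.presheaf.obj (op U)) :=
  {x | ∃ (k : ℕ) (hx : x ∈ 𝒮.deg U hU (k * m)), GVan chart i hU ht hm hx}

variable (chart) in
/-- The ideal generated by the numerators of the vanishing fractions. -/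
def numIdeal {t : 𝒮.presheaf.obj (op U)} {m : ℕ} (ht : t ∈ 𝒮.deg U hU m) (hm : 0 < m) :
    Ideal (𝒮.presheaf.obj (op U)) :=
  Ideal.span (gens chart i hU ht hm)

/-- Elements killed into an ideal by powers of `t`. -/
def sat {A : Type u} [CommRing A] (K : Ideal A) (t : A) : Ideal A where
  carrier := {a | ∃ N : ℕ, t ^ N * a ∈ K}
  zero_mem' := ⟨0, by simp⟩
  add_mem' := fun {a b} ⟨N, hN⟩ ⟨M, hM⟩ => ⟨N + M, by
    rw [mul_add, pow_add]
    refine add_mem ?_ ?_
    · rw [mul_comm (t ^ N) (t ^ M), mul_assoc]; exact K.mul_mem_left _ hN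
    · rw [mul_assoc]; exact K.mul_mem_left _ hM⟩
  smul_mem' := fun c a ⟨N, hN⟩ => ⟨N, by rw [smul_eq_mul, mul_left_comm]; exact K.mul_mem_left _ hN⟩

theorem mem_sat {A : Type u} [CommRing A] {K : Ideal A} {t a : A} : a ∈ sat K t ↔ ∃ N : ℕ, t ^ N * a ∈ K :=
  Iff.rfl

variable (chart) in
/-- The ideal of the homogeneous cone of the subscheme. -/
def coneIdeal : Ideal (𝒮.presheaf.obj (op U)) :=
  ⨅ (m : ℕ) (hm : 0 < m) (t : 𝒮.presheaf.obj (op U)) (ht : t ∈ 𝒮.deg U hU m),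
    sat (numIdeal chart i hU ht hm) t

theorem mem_coneIdeal {a : 𝒮.presheaf.obj (op U)} :
    a ∈ coneIdeal chart i hU ↔ ∀ (m : ℕ) (hm : 0 < m) (t : 𝒮.presheaf.obj (op U)) (ht : t ∈ 𝒮.deg U hU m),
      ∃ N : ℕ, t ^ N * a ∈ numIdeal chart i hU ht hm := by
  simp only [coneIdeal, Submodule.mem_iInf, mem_sat]

section Basic

variable {t : 𝒮.presheaf.obj (op U)} {m : ℕ} (ht : t ∈ 𝒮.deg U hU m) (hm : 0 < m)

include ht in
omit hm in
theorem pow_deg (k : ℕ) : t ^ k ∈ 𝒮.deg U hU (k * m) := by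
  simpa using SetLike.pow_mem_graded k ht

theorem gvan_of_mem_numIdeal {k : ℕ} {a : 𝒮.presheaf.obj (op U)} (ha : a ∈ 𝒮.deg U hU (k * m))
    (h : a ∈ numIdeal chart i hU ht hm) : GVan chart i hU ht hm ha := by
  classical
  obtain ⟨n, c, g, hsum⟩ := Submodule.mem_span_set'.1 h
  choose kk hx hv using fun l => (g l).2
  have hterm : ∀ l, ∃ hy : (DirectSum.decompose (𝒮.deg U hU) (c l * (g l).1) (k * m) : 𝒮.presheaf.obj (op U)) ∈
      𝒮.deg U hU (k * m), GVan chart i hU ht hm hy := by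
    intro l
    refine ⟨SetLike.coe_mem _, ?_⟩
    unfold GVan
    by_cases hle : kk l ≤ k
    · have hc : (DirectSum.decompose (𝒮.deg U hU) (c l) (k * m - kk l * m) : 𝒮.presheaf.obj (op U)) ∈
          𝒮.deg U hU ((k - kk l) * m) := by rw [Nat.sub_mul]; exact SetLike.coe_mem _
      rw [gsec_congr hU ht hm _ (show (DirectSum.decompose (𝒮.deg U hU) (c l) (k * m - kk l * m) :
          𝒮.presheaf.obj (op U)) * (g l).1 ∈ 𝒮.deg U hU ((k - kk l + kk l) * m) by
            rw [add_mul]; exact SetLike.mul_mem_graded hc (hx l)) (Nat.sub_add_cancel hle).symm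
          (DirectSum.coe_decompose_mul_of_right_mem_of_le (𝒮.deg U hU) (hx l) (Nat.mul_le_mul_right m hle)),
        ← gsec_mul hU ht hm hc (hx l), map_mul, show i.app _ _ = 0 from hv l, mul_zero]
    · rw [gsec_congr hU ht hm _ (zero_mem (𝒮.deg U hU (k * m))) rfl
        (DirectSum.coe_decompose_mul_of_right_mem_of_not_le (𝒮.deg U hU) (hx l)
          (fun h' => hle (Nat.le_of_mul_le_mul_right h' hm))), gsec_zero, map_zero]
  choose hy hv' using hterm
  have hmain : ∀ s : Finset (Fin n), ∃ hs : (∑ l ∈ s, (DirectSum.decompose (𝒮.deg U hU) (c l * (g l).1) (k * m) :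
      𝒮.presheaf.obj (op U))) ∈ 𝒮.deg U hU (k * m), GVan chart i hU ht hm hs := by
    intro s
    induction s using Finset.induction_on with
    | empty =>
      refine ⟨by simp, ?_⟩
      unfold GVan
      rw [gsec_congr hU ht hm _ (zero_mem (𝒮.deg U hU (k * m))) rfl Finset.sum_empty, gsec_zero, map_zero]
    | insert l s hl ih =>
      obtain ⟨hs, hvs⟩ := ih
      refine ⟨sum_mem fun j _ => hy j, ?_⟩
      unfold GVan
      rw [gsec_congr hU ht hm _ (add_mem (hy l) hs) rfl (Finset.sum_insert hl), gsec_add hU ht hm (hy l) hs, map_add,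
        show i.app _ _ = 0 from hv' l, show i.app _ _ = 0 from hvs, add_zero]
  obtain ⟨hs, hvs⟩ := hmain Finset.univ
  unfold GVan at hvs ⊢
  rw [gsec_congr hU ht hm ha hs rfl ?_]
  · exact hvs
  · conv_lhs => rw [← DirectSum.decompose_of_mem_same (𝒮.deg U hU) ha, ← hsum]
    rw [DirectSum.decompose_sum, DFinsupp.finsetSum_apply, AddSubmonoidClass.coe_finsetSum]
    rfl

theorem gvan_of_pow_mul {N k : ℕ} {a : 𝒮.presheaf.obj (op U)} (ha : a ∈ 𝒮.deg U hU (k * m))
    (h : t ^ N * a ∈ numIdeal chart i hU ht hm) : GVan chart i hU ht hm ha := by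
  have hm' : t ^ N * a ∈ 𝒮.deg U hU ((N + k) * m) := by
    rw [add_mul]; exact SetLike.mul_mem_graded (pow_deg hU ht N) ha
  have := gvan_of_mem_numIdeal i hU ht hm hm' h
  unfold GVan at this ⊢
  rwa [gsec_eq_of_mul hU ht hm ha hm' (by rw [pow_add]; ring)]

theorem gvan_of_mem_coneIdeal {k : ℕ} {a : 𝒮.presheaf.obj (op U)} (ha : a ∈ 𝒮.deg U hU (k * m))
    (h : a ∈ coneIdeal chart i hU) : GVan chart i hU ht hm ha := by
  obtain ⟨N, hN⟩ := (mem_coneIdeal i hU).1 h m hm t ht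
  exact gvan_of_pow_mul i hU ht hm ha hN

theorem decompose_mem_numIdeal {a : 𝒮.presheaf.obj (op U)} (ha : a ∈ numIdeal chart i hU ht hm) (n : ℕ) :
    (DirectSum.decompose (𝒮.deg U hU) a n : 𝒮.presheaf.obj (op U)) ∈ numIdeal chart i hU ht hm :=
  Ideal.homogeneous_span (𝒮.deg U hU) (gens chart i hU ht hm)
    (by rintro x ⟨k, hx, -⟩; exact ⟨k * m, hx⟩) n ha

end Basic

theorem decompose_mem_coneIdeal {a : 𝒮.presheaf.obj (op U)} (ha : a ∈ coneIdeal chart i hU) (n : ℕ) :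
    (DirectSum.decompose (𝒮.deg U hU) a n : 𝒮.presheaf.obj (op U)) ∈ coneIdeal chart i hU := by
  refine (mem_coneIdeal i hU).2 fun m hm t ht => ?_
  obtain ⟨N, hN⟩ := (mem_coneIdeal i hU).1 ha m hm t ht
  refine ⟨N, ?_⟩
  have := decompose_mem_numIdeal i hU ht hm hN (N * m + n)
  rwa [DirectSum.coe_decompose_mul_of_left_mem_of_le (𝒮.deg U hU) (pow_deg hU ht N) (Nat.le_add_right _ _),
    Nat.add_sub_cancel_left] at this

variable [IsAffineHom i]

/-- A fraction vanishing over `D(t')` gives, after multiplication by powers of `t'`, one vanishing over `D(t)`. -/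
theorem exists_pow_mul_mem_numIdeal {t t' : 𝒮.presheaf.obj (op U)} {m m' : ℕ} (ht : t ∈ 𝒮.deg U hU m) (hm : 0 < m)
    (ht' : t' ∈ 𝒮.deg U hU m') (hm' : 0 < m') {k : ℕ} {x : 𝒮.presheaf.obj (op U)}
    (hx : x ∈ 𝒮.deg U hU (k * m')) (hv : GVan chart i hU ht' hm' hx) :
    ∃ M : ℕ, t' ^ M * x ∈ numIdeal chart i hU ht hm := by
  classical
  let O := dOpen chart hU t
  have ht'pow : t' ^ m ∈ 𝒮.deg U hU (m' * m) := by
    rw [mul_comm]; exact pow_deg hU ht' m
  let ρ := gsec chart hU ht hm ht'pow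
  have hO : IsAffineOpen (i ⁻¹ᵁ O) := (isAffineOpen_dOpen hU ht hm).preimage i
  have := hO.isLocalization_basicOpen (i.app O ρ)
  have hz0 : x * t' ^ (k * m - k) ∈ 𝒮.deg U hU ((k * m') * m) := by
    have hkm : k ≤ k * m := Nat.le_mul_of_pos_right k hm
    have h1 := SetLike.mul_mem_graded hx (pow_deg hU ht' (k * m - k))
    rwa [show k * m' + (k * m - k) * m' = k * m' * m by
      rw [← add_mul, Nat.add_sub_cancel' hkm]; ring] at h1
  let z := gsec chart hU ht hm hz0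
  have hb : P.basicOpen ρ = dOpen chart hU (t * t') := by
    rw [basicOpen_gsec hU ht hm ht'pow]
    show RelProj.emb p chart U hU ''ᵁ _ = RelProj.emb p chart U hU ''ᵁ _
    rw [Proj.basicOpen_mul, Proj.basicOpen_mul, Proj.basicOpen_pow _ _ _ hm]
  have htt : t * t' ∈ 𝒮.deg U hU (m + m') := SetLike.mul_mem_graded ht ht'
  have hw : t' ^ (k * m + k * m') ∈ 𝒮.deg U hU ((k * m') * (m + m')) := by
    have h1 := pow_deg hU ht' (k * m + k * m')
    rwa [show (k * m + k * m') * m' = k * m' * (m + m') by ring] at h1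
  have key : fres (dOpen_mul_le_left hU t t') z =
      gsec chart hU htt (Nat.add_pos_left hm m') hw *
        fres (dOpen_mul_le_right hU t t') (gsec chart hU ht' hm' hx) := by
    rw [gsec_res_left hU ht hm ht' hz0, gsec_res_right hU ht ht' hm' hx]
    refine Eq.trans ?_ (gsec_mul hU htt (Nat.add_pos_left hm m') hw _).symm
    refine gsec_eq_of_mul hU htt _ _ _ ?_
    have hkm : k ≤ k * m := Nat.le_mul_of_pos_right k hm
    rw [pow_add (t * t') (k * m') k, mul_pow t t' k, pow_add t' (k * m) (k * m'),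
      show k * m = (k * m - k) + k from (Nat.sub_add_cancel hkm).symm, pow_add t' (k * m - k) k, Nat.add_sub_cancel]
    ring
  have hzero : fres (Z.basicOpen_le (i.app O ρ)) (i.app O z) = 0 := by
    have hle : Z.basicOpen (i.app O ρ) ≤ i ⁻¹ᵁ dOpen chart hU (t * t') :=
      ((i.preimage_basicOpen ρ).symm.trans (congrArg (i ⁻¹ᵁ ·) hb)).le
    have h1 : i.app _ (fres (dOpen_mul_le_left hU t t') z) = 0 := by
      rw [key, map_mul, app_fres i (dOpen_mul_le_right hU t t'),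
        show i.app _ (gsec chart hU ht' hm' hx) = 0 from hv]
      simp [fres]
    rw [app_fres i (dOpen_mul_le_left hU t t')] at h1
    have h2 := congrArg (fres hle) h1
    rw [fres_fres, show fres hle (0 : Γ(Z, _)) = 0 from map_zero (Z.presheaf.map _).hom] at h2
    exact h2
  obtain ⟨⟨_, e, rfl⟩, he⟩ := (IsLocalization.map_eq_zero_iff (Submonoid.powers (i.app O ρ))
    Γ(Z, Z.basicOpen (i.app O ρ)) _).1 hzero
  refine ⟨m * e + (k * m - k), Ideal.subset_span ⟨e * m' + k * m', ?_, ?_⟩⟩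
  · have h1 := SetLike.mul_mem_graded (pow_deg hU ht' (m * e)) hz0
    rw [pow_add]
    rw [show t' ^ (m * e) * t' ^ (k * m - k) * x = t' ^ (m * e) * (x * t' ^ (k * m - k)) by ring]
    rwa [show (e * m' + k * m') * m = m * e * m' + k * m' * m by ring]
  · unfold GVan
    have hpow : (t' ^ m) ^ e ∈ 𝒮.deg U hU (e * m' * m) := by
      have h1 := pow_deg hU ht' (m * e)
      rwa [pow_mul, show m * e * m' = e * m' * m by ring] at h1
    refine Eq.trans ?_ he
    show _ = (i.app O).hom ρ ^ e * (i.app O).hom z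
    rw [← map_pow (i.app O).hom, ← map_mul (i.app O).hom]
    refine congrArg (i.app O).hom ?_
    rw [gsec_pow hU ht hm ht'pow e, gsec_mul hU ht hm]
    exact gsec_congr hU ht hm _ _ rfl (by rw [← pow_mul, pow_add]; ring)

/-- The cone ideal is tested on any covering family. -/
theorem mem_coneIdeal_of_cover {ι : Type*} (g : ι → 𝒮.presheaf.obj (op U)) (d : ι → ℕ)
    (hd : ∀ l, 0 < d l) (hg : ∀ l, g l ∈ 𝒮.deg U hU (d l))
    (hcov : ∀ y : Proj (𝒮.deg U hU), ∃ l, y ∈ Proj.basicOpen (𝒮.deg U hU) (g l))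
    {a : 𝒮.presheaf.obj (op U)} (ha : ∀ l, ∃ N : ℕ, g l ^ N * a ∈ numIdeal chart i hU (hg l) (hd l)) :
    a ∈ coneIdeal chart i hU := by
  classical
  refine (mem_coneIdeal i hU).2 fun m hm t ht => ?_
  let L : Ideal (𝒮.presheaf.obj (op U)) :=
    { carrier := {c | c * a ∈ sat (numIdeal chart i hU ht hm) t}
      zero_mem' := by simp
      add_mem' := fun {c d} hc hd' => by
        show (c + d) * a ∈ sat _ t
        rw [add_mul]; exact add_mem hc hd'
      smul_mem' := fun c d hd' => by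
        show (c * d) * a ∈ sat _ t
        rw [mul_assoc]; exact Ideal.mul_mem_left _ c hd' }
  have hrad : ∀ l, g l ∈ L.radical := by
    intro l
    obtain ⟨N, hN⟩ := ha l
    have hle : numIdeal chart i hU (hg l) (hd l) ≤ sat (numIdeal chart i hU ht hm) (g l) :=
      Ideal.span_le.2 fun x ⟨k, hx, hv⟩ => exists_pow_mul_mem_numIdeal i hU ht hm (hg l) (hd l) hx hv
    obtain ⟨M, hM⟩ := hle hN
    refine ⟨M + N, mem_sat.2 ⟨0, ?_⟩⟩
    rw [pow_zero, one_mul, pow_add, mul_assoc]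
    exact hM
  have hspan : (Ideal.span (Set.range g)).IsHomogeneous (𝒮.deg U hU) :=
    Ideal.homogeneous_span _ _ (by rintro _ ⟨l, rfl⟩; exact ⟨d l, hg l⟩)
  have ht_rad : t ∈ (Ideal.span (Set.range g)).radical := by
    rw [hspan.radical_eq, Ideal.mem_sInf]
    rintro J ⟨hJ, hgJ, hJp⟩
    by_contra htJ
    have hirr : ¬ (HomogeneousIdeal.irrelevant (𝒮.deg U hU)).toIdeal ≤ J := fun hle =>
      htJ (hle (HomogeneousIdeal.mem_irrelevant_of_mem _ hm ht))
    let y : Proj (𝒮.deg U hU) := ⟨⟨J, hJ⟩, hJp, hirr⟩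
    obtain ⟨l, hl⟩ := hcov y
    exact hl (hgJ (Ideal.subset_span ⟨l, rfl⟩))
  have : t ∈ L.radical := by
    have h1 : (Ideal.span (Set.range g)).radical ≤ L.radical.radical :=
      Ideal.radical_mono (Ideal.span_le.2 (by rintro _ ⟨l, rfl⟩; exact hrad l))
    rw [Ideal.radical_idem] at h1
    exact h1 ht_rad
  obtain ⟨n, hn⟩ := this
  obtain ⟨N, hN⟩ := (hn : t ^ n * a ∈ sat _ t)
  exact ⟨N + n, by rw [pow_add, mul_assoc]; exact hN⟩

include chart in
variable (chart) in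
omit [IsAffineHom i] in
/-- A finite covering family of standard opens. -/
theorem exists_cover [QuasiCompact p] : ∃ T : Finset (Σ m : {m : ℕ // 0 < m}, 𝒮.deg U hU m.1),
    ∀ y : Proj (𝒮.deg U hU), ∃ l ∈ T, y ∈ Proj.basicOpen (𝒮.deg U hU) (l.2 : 𝒮.presheaf.obj (op U)) := by
  classical
  haveI : CompactSpace (p ⁻¹ᵁ U : P.Opens) :=
    isCompact_iff_compactSpace.1 (p.isCompact_preimage hU.isCompact)
  haveI : CompactSpace (Proj (𝒮.deg U hU)) :=
    (chart U hU).hom.homeomorph.surjective.compactSpace (chart U hU).hom.homeomorph.continuous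
  have hcov : (Set.univ : Set (Proj (𝒮.deg U hU))) ⊆ ⋃ l : Σ m : {m : ℕ // 0 < m}, 𝒮.deg U hU m.1,
      (Proj.basicOpen (𝒮.deg U hU) (l.2 : 𝒮.presheaf.obj (op U)) : Set (Proj (𝒮.deg U hU))) := by
    intro y _
    obtain ⟨e, h, he, hh, hy⟩ := exists_pos_notMem_point (𝒮.deg U hU) y
    exact Set.mem_iUnion.2 ⟨⟨⟨e, he⟩, ⟨h, hh⟩⟩, hy⟩
  obtain ⟨T, hT⟩ := isCompact_univ.elim_finite_subcover _ (fun l => (Proj.basicOpen _ _).isOpen) hcov
  exact ⟨T, fun y => by simpa using hT (Set.mem_univ y)⟩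

/-- A vanishing fraction becomes an element of the cone ideal after multiplication by a power of the denominator. -/
theorem exists_pow_mul_mem_coneIdeal [QuasiCompact p] {t : 𝒮.presheaf.obj (op U)} {m : ℕ}
    (ht : t ∈ 𝒮.deg U hU m) (hm : 0 < m) {k : ℕ} {x : 𝒮.presheaf.obj (op U)}
    (hx : x ∈ 𝒮.deg U hU (k * m)) (hv : GVan chart i hU ht hm hx) :
    ∃ N : ℕ, t ^ N * x ∈ coneIdeal chart i hU := by
  classical
  obtain ⟨T, hT⟩ := exists_cover chart hU
  choose M hM using fun l : T => exists_pow_mul_mem_numIdeal i hU (SetLike.coe_mem l.1.2) l.1.1.2 ht hm hx hv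
  refine ⟨Finset.univ.sup M, mem_coneIdeal_of_cover i hU (fun l : T => (l.1.2 : 𝒮.presheaf.obj (op U)))
    (fun l => l.1.1.1) (fun l => l.1.1.2) (fun l => SetLike.coe_mem l.1.2)
    (fun y => ?_) fun l => ⟨0, ?_⟩⟩
  · obtain ⟨l, hl, hy⟩ := hT y
    exact ⟨⟨l, hl⟩, hy⟩
  · have hle : M l ≤ Finset.univ.sup M := Finset.le_sup (Finset.mem_univ l)
    rw [pow_zero, one_mul, ← Nat.sub_add_cancel hle, pow_add, mul_assoc]
    exact Ideal.mul_mem_left _ _ (hM l)

include hP in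
omit [IsAffineHom i] in
theorem res_numIdeal_le {V : S.Opens} (hV : IsAffineOpen V) (h : V ≤ U) {t : 𝒮.presheaf.obj (op U)} {m : ℕ}
    (ht : t ∈ 𝒮.deg U hU m) (hm : 0 < m) :
    (numIdeal chart i hU ht hm).map (𝒮.res hU hV h) ≤ numIdeal chart i hV ((𝒮.res hU hV h).map_mem ht) hm := by
  rw [numIdeal, Ideal.map_span, Ideal.span_le]
  rintro _ ⟨x, ⟨k, hx, hv⟩, rfl⟩
  refine Ideal.subset_span ⟨k, (𝒮.res hU hV h).map_mem hx, ?_⟩
  unfold GVan at hv ⊢
  rw [← gsec_restrict hU ht hm hP hV h hx, app_fres, hv]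
  exact map_zero (Z.presheaf.map _).hom

include hP in
theorem res_mem_coneIdeal [QuasiCompact p] {V : S.Opens} (hV : IsAffineOpen V) (h : V ≤ U)
    {a : 𝒮.presheaf.obj (op U)} (ha : a ∈ coneIdeal chart i hU) :
    𝒮.res hU hV h a ∈ coneIdeal chart i hV := by
  obtain ⟨T, hT⟩ := exists_cover chart hU
  refine mem_coneIdeal_of_cover i hV (fun l : T => 𝒮.res hU hV h (l.1.2 : 𝒮.presheaf.obj (op U)))
    (fun l => l.1.1.1) (fun l => l.1.1.2) (fun l => (𝒮.res hU hV h).map_mem (SetLike.coe_mem l.1.2))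
    (fun y => ?_) fun l => ?_
  · let y' := Proj.map (𝒮.res hU hV h) (irrelevant_le_map_res 𝒮 hU hV h) y
    obtain ⟨l, hl, hy⟩ := hT y'
    exact ⟨⟨l, hl⟩, by rw [← Proj.map_preimage_basicOpen]; exact hy⟩
  · obtain ⟨N, hN⟩ := (mem_coneIdeal i hU).1 ha _ l.1.1.2 _ (SetLike.coe_mem l.1.2)
    refine ⟨N, res_numIdeal_le hP i hU hV h (SetLike.coe_mem l.1.2) l.1.1.2 ?_⟩
    have := Ideal.mem_map_of_mem (𝒮.res hU hV h) hN
    rwa [map_mul, map_pow] at this

include hP in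
theorem exists_str_pow_mul_mem_numIdeal (r : Γ(S, U)) {t : 𝒮.presheaf.obj (op U)} {m : ℕ}
    (ht : t ∈ 𝒮.deg U hU m) (hm : 0 < m) {k : ℕ} {x : 𝒮.presheaf.obj (op U)} (hx : x ∈ 𝒮.deg U hU (k * m))
    (hv : GVan chart i (hU.basicOpen r) ((𝒮.res hU (hU.basicOpen r) (S.basicOpen_le r)).map_mem ht) hm
      ((𝒮.res hU (hU.basicOpen r) (S.basicOpen_le r)).map_mem hx)) :
    ∃ e : ℕ, (𝒮.str.app (op U)).hom r ^ e * x ∈ numIdeal chart i hU ht hm := by
  let O := dOpen chart hU t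
  let ρ := p.appLE U O (dOpen_le hU _) r
  have hO : IsAffineOpen (i ⁻¹ᵁ O) := (isAffineOpen_dOpen hU ht hm).preimage i
  have := hO.isLocalization_basicOpen (i.app O ρ)
  have hb : P.basicOpen ρ = dOpen chart (hU.basicOpen r) (𝒮.res hU (hU.basicOpen r) (S.basicOpen_le r) t) := by
    rw [dOpen_res hP, Scheme.preimage_basicOpen]
    show P.basicOpen (P.presheaf.map _ (p.app U r)) = _
    rw [Scheme.basicOpen_res]
  have hle : Z.basicOpen (i.app O ρ) ≤
      i ⁻¹ᵁ dOpen chart (hU.basicOpen r) (𝒮.res hU (hU.basicOpen r) (S.basicOpen_le r) t) :=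
    ((i.preimage_basicOpen ρ).symm.trans (congrArg (i ⁻¹ᵁ ·) hb)).le
  have hz : fres (Z.basicOpen_le (i.app O ρ)) (i.app O (gsec chart hU ht hm hx)) = 0 := by
    unfold GVan at hv
    rw [← gsec_restrict hU ht hm hP (hU.basicOpen r) (S.basicOpen_le r) hx, app_fres] at hv
    have h2 := congrArg (fres hle) hv
    rw [fres_fres, show fres hle (0 : Γ(Z, _)) = 0 from map_zero (Z.presheaf.map _).hom] at h2
    exact h2
  obtain ⟨⟨_, e, rfl⟩, he⟩ := (IsLocalization.map_eq_zero_iff (Submonoid.powers (i.app O ρ))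
    Γ(Z, Z.basicOpen (i.app O ρ)) _).1 hz
  have hr : (𝒮.str.app (op U)).hom r ∈ 𝒮.deg U hU (0 * m) := by rw [zero_mul]; exact 𝒮.str_mem U hU r
  have hre : (𝒮.str.app (op U)).hom r ^ e ∈ 𝒮.deg U hU (0 * m) := by
    rw [zero_mul]; simpa using SetLike.pow_mem_graded e (𝒮.str_mem U hU r)
  refine ⟨e, Ideal.subset_span ⟨0 + k, by rw [add_mul]; exact SetLike.mul_mem_graded hre hx, ?_⟩⟩
  unfold GVan
  refine Eq.trans ?_ he
  show _ = (i.app O).hom ρ ^ e * (i.app O).hom (gsec chart hU ht hm hx)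
  rw [← map_pow (i.app O).hom, ← map_mul (i.app O).hom]
  refine congrArg (i.app O).hom ?_
  rw [show ρ = gsec chart hU ht hm hr from appLE_str hU ht hm hP r, gsec_pow hU ht hm hr e, gsec_mul hU ht hm]

include hP in
theorem exists_str_pow_mul_mem [QuasiCompact p] (r : Γ(S, U)) {a : 𝒮.presheaf.obj (op U)}
    (h : 𝒮.res hU (hU.basicOpen r) (S.basicOpen_le r) a ∈ coneIdeal chart i (hU.basicOpen r)) :
    ∃ e : ℕ, (𝒮.str.app (op U)).hom r ^ e * a ∈ coneIdeal chart i hU := by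
  classical
  letI := (𝒮.presheaf.map (homOfLE (S.basicOpen_le r)).op).hom.toAlgebra
  haveI : IsLocalization.Away ((𝒮.str.app (op U)).hom r) (𝒮.presheaf.obj (op (S.basicOpen r))) := 𝒮.isQC U hU r
  let c := (𝒮.str.app (op U)).hom r
  let res := 𝒮.res hU (hU.basicOpen r) (S.basicOpen_le r)
  obtain ⟨T, hT⟩ := exists_cover chart hU
  have key : ∀ l : T, ∃ e N : ℕ, (l.1.2 : 𝒮.presheaf.obj (op U)) ^ N * (c ^ e * a) ∈
      numIdeal chart i hU (SetLike.coe_mem l.1.2) l.1.1.2 := by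
    intro l
    let g := (l.1.2 : 𝒮.presheaf.obj (op U))
    let L := sat (numIdeal chart i hU (SetLike.coe_mem l.1.2) l.1.1.2) c
    obtain ⟨N, hN⟩ := (mem_coneIdeal i _).1 h l.1.1.1 l.1.1.2 (res g) (res.map_mem (SetLike.coe_mem l.1.2))
    have hle : numIdeal chart i (hU.basicOpen r) (res.map_mem (SetLike.coe_mem l.1.2)) l.1.1.2 ≤
        L.map (algebraMap (𝒮.presheaf.obj (op U)) (𝒮.presheaf.obj (op (S.basicOpen r)))) := by
      refine Ideal.span_le.2 ?_
      rintro x' ⟨k, hx', hv⟩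
      obtain ⟨⟨y, ⟨_, j, rfl⟩⟩, hy⟩ := IsLocalization.surj (Submonoid.powers c) x'
      have hyD : res y = x' * res c ^ j := by
        refine Eq.trans hy.symm ?_
        show x' * res (c ^ j) = _
        rw [map_pow]
      have hcD : res c ^ j ∈ 𝒮.deg (S.basicOpen r) (hU.basicOpen r) (0 * l.1.1.1) := by
        have := SetLike.pow_mem_graded j (res.map_mem (𝒮.str_mem U hU r))
        simpa using this
      let y₀ : 𝒮.presheaf.obj (op U) := DirectSum.decompose (𝒮.deg U hU) y (k * l.1.1.1)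
      have hy₀ : res y₀ = x' * res c ^ j := by
        show res (DirectSum.decompose (𝒮.deg U hU) y (k * l.1.1.1) : 𝒮.presheaf.obj (op U)) = _
        rw [GradedRingHom.map_directSumDecompose, hyD, DirectSum.decompose_of_mem_same]
        simpa using SetLike.mul_mem_graded hx' hcD
      have hv' : GVan chart i (hU.basicOpen r) (res.map_mem (SetLike.coe_mem l.1.2)) l.1.1.2
          (res.map_mem (SetLike.coe_mem (DirectSum.decompose (𝒮.deg U hU) y (k * l.1.1.1)))) := by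
        refine gvan_of_mem_numIdeal i _ _ _ _ ?_
        show res y₀ ∈ _
        rw [hy₀]
        exact Ideal.mul_mem_right _ _ (Ideal.subset_span ⟨k, hx', hv⟩)
      have hy₀L : y₀ ∈ L := exists_str_pow_mul_mem_numIdeal hP i hU r (SetLike.coe_mem l.1.2) l.1.1.2
        (SetLike.coe_mem _) hv'
      have hu : IsUnit (res c ^ j) :=
        (IsLocalization.map_units (M := Submonoid.powers c) (𝒮.presheaf.obj (op (S.basicOpen r)))
          ⟨c, 1, pow_one c⟩).pow j
      rw [SetLike.mem_coe, ← Ideal.mul_unit_mem_iff_mem _ hu, ← hy₀]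
      exact Ideal.mem_map_of_mem _ hy₀L
    have h1 : algebraMap (𝒮.presheaf.obj (op U)) (𝒮.presheaf.obj (op (S.basicOpen r))) (g ^ N * a) ∈ L.map (algebraMap (𝒮.presheaf.obj (op U)) (𝒮.presheaf.obj (op (S.basicOpen r)))) := by
      refine hle ?_
      show res (g ^ N * a) ∈ _
      rw [map_mul, map_pow]
      exact hN
    obtain ⟨_, ⟨e₁, rfl⟩, he₁⟩ := (IsLocalization.algebraMap_mem_map_algebraMap_iff (Submonoid.powers c)
      (𝒮.presheaf.obj (op (S.basicOpen r))) _ _).1 h1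
    obtain ⟨e₂, he₂⟩ := (he₁ : c ^ e₁ * (g ^ N * a) ∈ L)
    exact ⟨e₂ + e₁, N, by rwa [mul_left_comm, pow_add, mul_assoc]⟩
  choose e N he using key
  refine ⟨Finset.univ.sup e, mem_coneIdeal_of_cover i hU (fun l : T => (l.1.2 : 𝒮.presheaf.obj (op U)))
    (fun l => l.1.1.1) (fun l => l.1.1.2) (fun l => SetLike.coe_mem l.1.2)
    (fun y => ?_) fun l => ⟨N l, ?_⟩⟩
  · obtain ⟨l, hl, hy⟩ := hT y
    exact ⟨⟨l, hl⟩, hy⟩
  · have hle : e l ≤ Finset.univ.sup e := Finset.le_sup (Finset.mem_univ l)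
    rw [← Nat.sub_add_cancel hle, pow_add, mul_assoc, mul_left_comm]
    exact Ideal.mul_mem_left _ _ (he l)

end Groth.Agent.Div89.SubProj

end
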