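import Groth.Agent.Div89.SubProj.Ideal
import Groth.Agent.EGA73.GrAlgGlue
import Groth.Agent.EGA73.GradedImage
import Groth.Agent.EGAProj74.AlgExtend
import Groth.Agent.EGAProj74.Exists
import Groth.Agent.EGAProj74.QMapProps

/-!
A closed subscheme of a relative Proj with quasi-compact structure map is the relative Proj of a graded quotient.
-/

set_option autoImplicit false
set_option backward.isDefEq.respectTransparency.types false

universe u

open CategoryTheory CategoryTheory.Limits AlgebraicGeometry TopologicalSpace Opposite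
open scoped HomogeneousIdeal

noncomputable section

namespace Groth.Agent.Div89.SubProj

open Var76.ZeroScheme EGAProj74 EGA73.GrFr EGA73 EGA73.RelVanish

variable {S P Z : Scheme.{u}} {𝒮 : RelProj.QCGrAlg S} {p : P ⟶ S}
  (chart : ∀ (U : S.Opens) (hU : IsAffineOpen U), (((p ⁻¹ᵁ U : P.Opens) : Scheme.{u}) ≅ Proj (𝒮.deg U hU)))
  (hP : RelProj.IsRelProj 𝒮 p chart) (i : Z ⟶ P) [QuasiCompact p]

section

variable [IsAffineHom i]

include hP in
/-- The quotient algebra by the cone ideals. -/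
theorem exists_quotient : ∃ (A' : RelSpec.QCAlg S) (φ : 𝒮.toQCAlg ⟶ A'),
    ∀ (U : S.Opens) (hU : IsAffineOpen U), Function.Surjective (φ.hom.app (op U)).hom ∧
      ∀ a, (φ.hom.app (op U)).hom a = 0 ↔ a ∈ coneIdeal chart i hU := by
  let F : S.AffineZariskiSiteᵒᵖ ⥤ CommRingCat.{u} :=
    { obj := fun U => CommRingCat.of (𝒮.presheaf.obj (op U.unop.1) ⧸ coneIdeal chart i U.unop.2)
      map := fun {U V} f => CommRingCat.ofHom (Ideal.quotientMap (coneIdeal chart i V.unop.2)
        (𝒮.presheaf.map (homOfLE (Scheme.AffineZariskiSite.toOpens_mono f.unop.le)).op).hom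
        fun a ha => res_mem_coneIdeal hP i U.unop.2 V.unop.2 _ ha)
      map_id := fun U => by
        refine CommRingCat.hom_ext (Ideal.Quotient.ringHom_ext (RingHom.ext fun a => ?_))
        exact congrArg (Ideal.Quotient.mk _) (ares_self 𝒮.toQCAlg a)
      map_comp := fun {U V W} f g => by
        refine CommRingCat.hom_ext (Ideal.Quotient.ringHom_ext (RingHom.ext fun a => ?_))
        exact congrArg (Ideal.Quotient.mk _) (ares_ares 𝒮.toQCAlg _ _ a).symm }
  let α : (Scheme.AffineZariskiSite.toOpensFunctor S).op ⋙ S.presheaf ⟶ F :=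
    { app := fun U => 𝒮.str.app (op U.unop.1) ≫ CommRingCat.ofHom (Ideal.Quotient.mk (coneIdeal chart i U.unop.2))
      naturality := fun U V f => by
        ext r
        exact congrArg (Ideal.Quotient.mk _) (ares_str 𝒮.toQCAlg
          (Scheme.AffineZariskiSite.toOpens_mono f.unop.le) r).symm }
  have hα : α.Coequifibered := by
    refine Scheme.AffineZariskiSite.coequifibered_iff_forall_isLocalizationAway.mpr fun ⟨U, hU⟩ r => ?_
    let inst := (𝒮.presheaf.map (homOfLE (S.basicOpen_le r)).op).hom.toAlgebra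
    have hloc : IsLocalization.Away ((𝒮.str.app (op U)).hom r) (𝒮.presheaf.obj (op (S.basicOpen r))) := 𝒮.isQC U hU r
    let c := (𝒮.str.app (op U)).hom r
    let q := Ideal.Quotient.mk (coneIdeal chart i hU)
    let q' := Ideal.Quotient.mk (coneIdeal chart i (hU.basicOpen r))
    let res := (𝒮.presheaf.map (homOfLE (S.basicOpen_le r)).op).hom
    let inst2 : Algebra (𝒮.presheaf.obj (op U) ⧸ coneIdeal chart i hU)
        (𝒮.presheaf.obj (op (S.basicOpen r)) ⧸ coneIdeal chart i (hU.basicOpen r)) :=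
      (F.map (homOfLE (Scheme.AffineZariskiSite.basicOpen_le ⟨U, hU⟩ r)).op).hom.toAlgebra
    show IsLocalization.Away (q c) (𝒮.presheaf.obj (op (S.basicOpen r)) ⧸ coneIdeal chart i (hU.basicOpen r))
    have halg : ∀ a, algebraMap (𝒮.presheaf.obj (op U) ⧸ coneIdeal chart i hU)
        (𝒮.presheaf.obj (op (S.basicOpen r)) ⧸ coneIdeal chart i (hU.basicOpen r)) (q a) = q' (res a) := fun a => rfl
    refine (isLocalization_iff ..).mpr ⟨?_, ?_, ?_⟩
    · rintro ⟨_, k, rfl⟩
      rw [map_pow]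
      refine IsUnit.pow k ?_
      rw [halg]
      exact (IsLocalization.map_units (M := Submonoid.powers c) (𝒮.presheaf.obj (op (S.basicOpen r)))
        ⟨c, 1, pow_one c⟩).map q'
    · intro z
      obtain ⟨y, rfl⟩ := Ideal.Quotient.mk_surjective z
      obtain ⟨⟨x, ⟨_, k, rfl⟩⟩, hx⟩ := IsLocalization.surj (Submonoid.powers c) y
      refine ⟨⟨q x, ⟨q c ^ k, k, rfl⟩⟩, ?_⟩
      show q' y * algebraMap _ _ (q c ^ k) = algebraMap _ _ (q x)
      rw [← map_pow, halg, halg, ← map_mul]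
      exact congrArg q' hx
    · intro z z' hzz'
      obtain ⟨x, rfl⟩ := Ideal.Quotient.mk_surjective z
      obtain ⟨y, rfl⟩ := Ideal.Quotient.mk_surjective z'
      rw [halg, halg, Ideal.Quotient.eq, ← map_sub] at hzz'
      obtain ⟨K, hK⟩ := exists_str_pow_mul_mem hP i hU r hzz'
      refine ⟨⟨q c ^ K, K, rfl⟩, ?_⟩
      show q c ^ K * q x = q c ^ K * q y
      rw [← map_pow, ← map_mul, ← map_mul, Ideal.Quotient.eq, ← mul_sub]
      exact hK
  let D : AffAlgData S := ⟨F, α, hα⟩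
  obtain ⟨φ, hφ, -⟩ := existsUnique_algHom (A := 𝒮.toQCAlg) (B := D.alg)
    (fun U => CommRingCat.ofHom (Ideal.Quotient.mk (coneIdeal chart i U.2)) ≫ @inv _ _ _ _ (D.gamma U) (D.isIso_gamma U))
    (fun {U V} f => by
      rw [← cancel_mono (D.gamma V), Category.assoc, Category.assoc, IsIso.inv_hom_id, Category.comp_id]
      erw [Category.assoc, D.gamma_res f, Category.assoc, IsIso.inv_hom_id_assoc]
      rfl)
    (fun U => by
      rw [← cancel_mono (D.gamma U), Category.assoc, Category.assoc, IsIso.inv_hom_id, Category.comp_id,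
        D.str_gamma]
      rfl)
  refine ⟨D.alg, φ, fun U hU => ?_⟩
  have e := hφ ⟨U, hU⟩
  have hb : Function.Bijective (inv (D.gamma ⟨U, hU⟩)).hom :=
    ConcreteCategory.bijective_of_isIso (inv (D.gamma ⟨U, hU⟩))
  rw [e]
  exact ⟨hb.2.comp Ideal.Quotient.mk_surjective, fun a =>
    ((map_eq_zero_iff _ hb.1).trans Ideal.Quotient.eq_zero_iff_mem : _)⟩

end

include hP in
/-- A closed subscheme is the relative Proj of a graded quotient. -/
theorem exists_gradedQuotient [IsClosedImmersion i] :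
    ∃ (ℬ : RelProj.QCGrAlg S) (φ : 𝒮.toQCAlg ⟶ ℬ.toQCAlg) (hφ : RelProj.IsGradedHom φ) (PB : Scheme.{u})
      (pB : PB ⟶ S) (chartB : ∀ (U : S.Opens) (hU : IsAffineOpen U), (((pB ⁻¹ᵁ U : PB.Opens) : Scheme.{u}) ≅ Proj (ℬ.deg U hU)))
      (h : PB ⟶ P) (e : PB ≅ Z),
      (∀ (U : S.Opens) (hU : IsAffineOpen U), Function.Surjective (φ.hom.app (op U)).hom ∧
          ∀ a, (φ.hom.app (op U)).hom a = 0 ↔ a ∈ coneIdeal chart i hU) ∧
        RelProj.IsRelProj ℬ pB chartB ∧ RelProj.IsProjQMap (RelProj.QGrHom.ofHom φ hφ) p chart pB chartB h ∧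
        e.hom ≫ i = h := by
  classical
  obtain ⟨A', φ, hφ⟩ := exists_quotient chart hP i
  have hsurj : ∀ (U : S.Opens) (hU : IsAffineOpen U), Function.Surjective (φ.hom.app (op U)).hom :=
    fun U hU => (hφ U hU).1
  have hker : ∀ (U : S.Opens) (hU : IsAffineOpen U), ∀ a, (φ.hom.app (op U)).hom a = 0 →
      ∀ n, (φ.hom.app (op U)).hom (DirectSum.decompose (𝒮.deg U hU) a n : 𝒮.presheaf.obj (op U)) = 0 :=
    fun U hU a ha n => ((hφ U hU).2 _).2 (decompose_mem_coneIdeal i hU (((hφ U hU).2 a).1 ha) n)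
  let G : LocGrading A' :=
    { Small := IsAffineOpen
      affine := id
      basis := fun U x hx => by
        obtain ⟨_, ⟨V, hV, rfl⟩, hxV, hVU⟩ :=
          (Scheme.isBasis_affineOpens S).exists_subset_of_mem_open hx U.2
        exact ⟨V, hV, hxV, hVU⟩
      deg := fun V hV => GradedImage.deg (𝒮.deg V hV) (φ.hom.app (op V)).hom
      graded := fun V hV => GradedImage.gradedRing _ _ (hsurj V hV) (hker V hV)
      map_mem := fun {U V} hU hV h {d x} hx => by
        obtain ⟨a, ha, rfl⟩ := (GradedImage.mem_deg (𝒮.deg U hU) (φ.hom.app (op U)).hom).1 hx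
        refine (GradedImage.mem_deg (𝒮.deg V hV) (φ.hom.app (op V)).hom).2 ⟨_, 𝒮.map_mem hU hV h ha, ?_⟩
        exact ConcreteCategory.congr_hom (φ.hom.naturality (homOfLE h).op) a
      str_mem := fun V hV r => by
        refine (GradedImage.mem_deg (𝒮.deg V hV) (φ.hom.app (op V)).hom).2 ⟨_, 𝒮.str_mem V hV r, ?_⟩
        exact ConcreteCategory.congr_hom (congrArg (fun ψ => ψ.app (op V)) φ.comm) r }
  let 𝒬 := G.toQCGrAlg
  have hdeg : ∀ (U : S.Opens) (hU : IsAffineOpen U) (n : ℕ) (b : A'.presheaf.obj (op U)),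
      b ∈ 𝒬.deg U hU n ↔ ∃ a ∈ 𝒮.deg U hU n, (φ.hom.app (op U)).hom a = b := fun U hU n b => by
    show b ∈ G.degAt U n ↔ _
    rw [G.degAt_eq (V := U) hU n]
    exact GradedImage.mem_deg (𝒮.deg U hU) (φ.hom.app (op U)).hom
  let φ' : 𝒮.toQCAlg ⟶ 𝒬.toQCAlg := φ
  have hgr : RelProj.IsGradedHom φ' := fun U hU d x hx => (hdeg U hU d _).2 ⟨x, hx, rfl⟩
  let u := RelProj.QGrHom.ofHom φ' hgr
  have hirr : ∀ (U : S.Opens) (hU : IsAffineOpen U),
      (𝒬.deg U hU)₊ ≤ ((𝒮.deg U hU)₊).map (u.gradedAt U hU U hU le_rfl) := fun U hU => by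
    rw [gradedAt_ofHom, HomogeneousIdeal.irrelevant_le]
    intro n hn b hb
    obtain ⟨a, ha, rfl⟩ := (hdeg U hU n b).1 hb
    exact Ideal.mem_map_of_mem (RelProj.gradedHomAt φ' hgr U hU) (HomogeneousIdeal.mem_irrelevant_of_mem _ hn ha)
  have hQ := isRelProj_relProj 𝒬
  have htop : RelProj.domQ u (relProjTo 𝒬) (relProjChart 𝒬) = ⊤ := by
    refine domQ_eq_top u hQ fun s => ?_
    obtain ⟨U, hU, hsU, -⟩ := exists_isAffineOpen_mem_and_subset (X := S) (x := s) (U := ⊤) trivial
    exact ⟨U, hU, U, hU, le_rfl, hsU, domOpen_eq_top_of_le _ (hirr U hU)⟩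
  obtain ⟨h, hh, -⟩ := existsUnique_projQMap u hP hQ htop
  have hv := ((isProjQMap_iff u).1 hh).2
  have hclosedMap : ∀ (U : S.Opens) (hU : IsAffineOpen U),
      IsClosedImmersion (Proj.map (u.gradedAt U hU U hU le_rfl) (hirr U hU)) := fun U hU =>
    map_of_away (P := @IsClosedImmersion) _ (hirr U hU) fun d hd f hf => IsClosedImmersion.spec_of_surjective _
      (away_map_surjective _ hd f hf 0 fun n _ y hy => by
        obtain ⟨a, ha, rfl⟩ := (hdeg U hU n y).1 hy
        exact ⟨a, ha, by rw [gradedAt_ofHom]; rfl⟩)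
  have hιh : IsClosedImmersion ((RelProj.domQ u (relProjTo 𝒬) (relProjChart 𝒬)).ι ≫ h) :=
    projQMapOn_id_of u hP hQ hv (Q := @IsClosedImmersion) fun U hU => by
      have := hclosedMap U hU
      have : IsIso (RelCone.domOpen (u.gradedAt U hU U hU le_rfl)).ι := by
        rw [domOpen_eq_top_of_le _ (hirr U hU)]; exact inferInstanceAs (IsIso (Scheme.topIso _).hom)
      rw [← ι_map_eq_domMap _ (hirr U hU)]
      infer_instance
  have hιiso : IsIso (RelProj.domQ u (relProjTo 𝒬) (relProjChart 𝒬)).ι := by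
    rw [htop]; exact inferInstanceAs (IsIso (Scheme.topIso _).hom)
  have : IsClosedImmersion h := by
    have h' : IsClosedImmersion (inv (RelProj.domQ u (relProjTo 𝒬) (relProjChart 𝒬)).ι ≫
        (RelProj.domQ u (relProjTo 𝒬) (relProjChart 𝒬)).ι ≫ h) := inferInstance
    rwa [IsIso.inv_hom_id_assoc] at h'
  have hover : h ≫ p = relProjTo 𝒬 := by
    have h1 := projQMapOn_over u hQ hP hv
    rw [Category.assoc] at h1
    have h2 := (cancel_epi (RelProj.domQ u (relProjTo 𝒬) (relProjChart 𝒬)).ι).1 h1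
    rwa [Category.comp_id] at h2
  have hemb : ∀ (U : S.Opens) (hU : IsAffineOpen U),
      RelProj.emb (relProjTo 𝒬) (relProjChart 𝒬) U hU ≫ h =
        Proj.map (u.gradedAt U hU U hU le_rfl) (hirr U hU) ≫ RelProj.emb p chart U hU := fun U hU => by
    have : IsIso (RelCone.domOpen (u.gradedAt U hU U hU le_rfl)).ι := by
      rw [domOpen_eq_top_of_le _ (hirr U hU)]; exact inferInstanceAs (IsIso (Scheme.topIso _).hom)
    rw [← cancel_epi (RelCone.domOpen (u.gradedAt U hU U hU le_rfl)).ι, ← Category.assoc, ← Category.assoc,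
      ι_map_eq_domMap, ← qι_ι u, Category.assoc]
    exact (isProjQMapOn_iff u).mp hv U hU U hU le_rfl
  let ι := Σ U : S.affineOpens, Σ m : {m : ℕ // 0 < m}, 𝒮.deg U.1 U.2 m.1
  let O : ι → P.affineOpens := fun j => ⟨dOpen chart j.1.2 (j.2.2 : 𝒮.presheaf.obj (op j.1.1)),
    isAffineOpen_dOpen j.1.2 (SetLike.coe_mem j.2.2) j.2.1.2⟩
  have hker' : h.ker = i.ker := by
    refine Scheme.IdealSheafData.ext_of_iSup_eq_top O (eq_top_iff.2 fun x _ => ?_) fun j => ?_
    · obtain ⟨U, hU, y, rfl⟩ := exists_emb_apply (𝒮 := 𝒮) (chart := chart) x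
      obtain ⟨d, g, hd, hg, hy⟩ := exists_pos_notMem_point (𝒮.deg U hU) y
      exact Opens.mem_iSup.2 ⟨⟨⟨U, hU⟩, ⟨d, hd⟩, g, hg⟩, ⟨y, hy, rfl⟩⟩
    · obtain ⟨⟨U, hU⟩, ⟨m, hm⟩, t, ht⟩ := j
      rw [Scheme.Hom.ker_apply, Scheme.Hom.ker_apply]
      ext x
      simp only [RingHom.mem_ker]
      obtain ⟨k, a, ha, rfl⟩ := exists_eq_gsec hU ht hm x
      show h.app (dOpen chart hU t) _ = 0 ↔ i.app (dOpen chart hU t) _ = 0
      let ψ := u.gradedAt U hU U hU le_rfl
      have hψ : ∀ b, ψ b = (φ.hom.app (op U)).hom b := fun b => by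
        show u.gradedAt U hU U hU le_rfl b = _
        rw [gradedAt_ofHom]; rfl
      let eQ := RelProj.emb (relProjTo 𝒬) (relProjChart 𝒬) U hU
      have epre : eQ ⁻¹ᵁ (h ⁻¹ᵁ dOpen chart hU t) = Proj.basicOpen (𝒬.deg U hU) (ψ t) := by
        rw [← Scheme.Hom.comp_preimage, hemb U hU, Scheme.Hom.comp_preimage, Scheme.Hom.preimage_image_eq,
          Proj.map_preimage_basicOpen]
      have hrange : h ⁻¹ᵁ dOpen chart hU t ≤ eQ.opensRange := by
        rw [opensRange_emb, ← hover, Scheme.Hom.comp_preimage]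
        exact h.preimage_mono (dOpen_le hU t)
      have key : ∀ (k' : Proj (𝒬.deg U hU) ⟶ P) (_ : k' = Proj.map ψ (hirr U hU) ≫ RelProj.emb p chart U hU)
          (e : Proj.basicOpen (𝒬.deg U hU) (ψ t) ≤ k' ⁻¹ᵁ dOpen chart hU t),
          k'.appLE (dOpen chart hU t) (Proj.basicOpen (𝒬.deg U hU) (ψ t)) e (gsec chart hU ht hm ha) =
            FracSections.scal (ψ.map_mem ht) hm k (ψ.map_mem ha) := by
        rintro k' rfl e
        refine (ConcreteCategory.congr_hom (Scheme.Hom.appLE_comp_appLE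
          (Proj.map ψ (hirr U hU)) (RelProj.emb p chart U hU)
          (dOpen chart hU t) (Proj.basicOpen (𝒮.deg U hU) t) (Proj.basicOpen (𝒬.deg U hU) (ψ t))
          ((RelProj.emb p chart U hU).preimage_image_eq _).ge le_rfl) _).symm.trans ?_
        rw [ConcreteCategory.comp_apply, appLE_gsec, map_scal]
      have hinj : Function.Injective
          (eQ.appLE (h ⁻¹ᵁ dOpen chart hU t) (Proj.basicOpen (𝒬.deg U hU) (ψ t)) epre.ge) := by
        have hiso : IsIso (eQ.app (h ⁻¹ᵁ dOpen chart hU t)) := Scheme.Hom.isIso_app eQ _ hrange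
        have hiso' : IsIso (homOfLE epre.ge) := ⟨homOfLE epre.le, Subsingleton.elim _ _, Subsingleton.elim _ _⟩
        have : IsIso (eQ.appLE (h ⁻¹ᵁ dOpen chart hU t) (Proj.basicOpen (𝒬.deg U hU) (ψ t)) epre.ge) :=
          @IsIso.comp_isIso _ _ _ _ _ _ _ hiso inferInstance
        exact (ConcreteCategory.bijective_of_isIso
          (eQ.appLE (h ⁻¹ᵁ dOpen chart hU t) (Proj.basicOpen (𝒬.deg U hU) (ψ t)) epre.ge)).1
      have e2 : eQ.appLE (h ⁻¹ᵁ dOpen chart hU t) (Proj.basicOpen (𝒬.deg U hU) (ψ t)) epre.ge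
          (h.app (dOpen chart hU t) (gsec chart hU ht hm ha)) = FracSections.scal (ψ.map_mem ht) hm k (ψ.map_mem ha) := by
        rw [← ConcreteCategory.comp_apply, ← Scheme.Hom.appLE_eq_app, Scheme.Hom.appLE_comp_appLE]
        exact key _ (hemb U hU) _
      rw [← map_eq_zero_iff _ hinj, e2, scal_eq_zero_iff]
      constructor
      · rintro ⟨K, hK⟩
        rw [← map_pow, ← map_mul] at hK
        erw [hψ] at hK
        refine gvan_of_pow_mul i hU ht hm ha (N := Classical.choose ((mem_coneIdeal i hU).1 (((hφ U hU).2 _).1 hK) m hm t ht) + K) ?_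
        rw [pow_add, mul_assoc]
        exact Classical.choose_spec ((mem_coneIdeal i hU).1 (((hφ U hU).2 _).1 hK) m hm t ht)
      · intro hi
        obtain ⟨K, hK⟩ := exists_pow_mul_mem_coneIdeal i hU ht hm ha hi
        refine ⟨K, ?_⟩
        rw [← map_pow, ← map_mul]
        erw [hψ]
        exact ((hφ U hU).2 _).2 hK
  have hiso := IsClosedImmersion.isIso_lift i h hker'.symm
  let e := @asIso _ _ _ _ (IsClosedImmersion.lift i h hker'.ge) hiso
  exact ⟨𝒬, φ', hgr, relProj 𝒬, relProjTo 𝒬, relProjChart 𝒬, h, e, hφ, hQ, hh,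
    IsClosedImmersion.lift_fac i h hker'.ge⟩

end Groth.Agent.Div89.SubProj

end
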