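import Groth.Agent.EGA73.GrFr
import Groth.Agent.EGAProj74.FracSections

/-!
The functions `x / t ^ k` on the standard affine open of a relative Proj attached to a homogeneous element `t`
of any positive degree.
-/

set_option autoImplicit false
set_option backward.isDefEq.respectTransparency.types false

universe u

open CategoryTheory CategoryTheory.Limits AlgebraicGeometry TopologicalSpace Opposite
open scoped HomogeneousIdeal

noncomputable section

namespace Groth.Agent.Div89.SubProj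

open Var76.ZeroScheme EGAProj74 EGA73.GrFr FracSections

section Ring

variable {A σ : Type u} [CommRing A] [SetLike σ A] [AddSubgroupClass σ A] {𝒜 : ℕ → σ} [GradedRing 𝒜]

theorem scal_zero {t : A} {m : ℕ} (ht : t ∈ 𝒜 m) (hm : 0 < m) (k : ℕ) :
    scal ht hm k (zero_mem (𝒜 (k * m))) = 0 := by
  refine ext_val fun x => ?_
  rw [scal_val, Localization.mk_zero]
  show _ = (0 : GrTwist.A0 𝒜 x.1).val
  rw [HomogeneousLocalization.val_zero]

theorem basicOpen_scal {t b : A} {m l : ℕ} (ht : t ∈ 𝒜 m) (hm : 0 < m) (hb : b ∈ 𝒜 (l * m)) :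
    (Proj 𝒜).basicOpen (scal ht hm l hb) = Proj.basicOpen 𝒜 (t * b) :=
  GrT.proj_basicOpen_eq (d := m) (l := l) _ hb (pow_mem ht l) fun x => HomogeneousLocalization.val_injective _ (by
    rw [scal_val]; simp [GrT.a0Frac])

theorem scal_eq_zero_iff {t : A} {m : ℕ} (ht : t ∈ 𝒜 m) (hm : 0 < m) {k : ℕ} {x : A} (hx : x ∈ 𝒜 (k * m)) :
    scal ht hm k hx = 0 ↔ ∃ K : ℕ, t ^ K * x = 0 := by
  have hinj : Function.Injective (Proj.basicOpenIsoAway 𝒜 t ht hm).hom :=
    (ConcreteCategory.bijective_of_isIso (Proj.basicOpenIsoAway 𝒜 t ht hm).hom).1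
  rw [scal, map_eq_zero_iff _ hinj, HomogeneousLocalization.ext_iff_val, HomogeneousLocalization.Away.val_mk,
    HomogeneousLocalization.val_zero, Localization.mk_eq_mk', IsLocalization.mk'_eq_zero_iff]
  exact ⟨fun ⟨⟨_, K, rfl⟩, h⟩ => ⟨K, h⟩, fun ⟨K, h⟩ => ⟨⟨_, K, rfl⟩, h⟩⟩

theorem map_scal {B τ : Type u} [CommRing B] [SetLike τ B] [AddSubgroupClass τ B] {ℬ : ℕ → τ} [GradedRing ℬ]
    (φ : 𝒜 →+*ᵍ ℬ) (hφ : ℬ₊ ≤ (𝒜₊).map φ) {t : A} {m : ℕ} (ht : t ∈ 𝒜 m) (hm : 0 < m) {k : ℕ} {x : A}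
    (hx : x ∈ 𝒜 (k * m)) :
    (Proj.map φ hφ).appLE (Proj.basicOpen 𝒜 t) (Proj.basicOpen ℬ (φ t)) le_rfl (scal ht hm k hx) =
      scal (φ.map_mem ht) hm k (φ.map_mem hx) := by
  refine (ConcreteCategory.congr_hom (Proj.awayToSection_comp_appLE φ hφ ht) _).trans ?_
  show Proj.awayToSection ℬ (φ t) (HomogeneousLocalization.Away.map φ t
    (HomogeneousLocalization.Away.mk 𝒜 ht k x _)) = Proj.awayToSection ℬ (φ t) _
  rw [HomogeneousLocalization.Away.map_mk]
  rfl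

end Ring

variable {S P : Scheme.{u}} {𝒮 : RelProj.QCGrAlg S} {p : P ⟶ S}
  {chart : ∀ (U : S.Opens) (hU : IsAffineOpen U), (((p ⁻¹ᵁ U : P.Opens) : Scheme.{u}) ≅ Proj (𝒮.deg U hU))}
variable {U : S.Opens} (hU : IsAffineOpen U) {t : 𝒮.presheaf.obj (op U)} {m : ℕ}
  (ht : t ∈ 𝒮.deg U hU m) (hm : 0 < m)

theorem isAffineOpen_dOpen (ht : t ∈ 𝒮.deg U hU m) (hm : 0 < m) : IsAffineOpen (dOpen chart hU t) :=
  (Proj.isAffineOpen_basicOpen _ t ht hm).image_of_isOpenImmersion _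

variable (chart) in
/-- The function `x / t ^ k`. -/
def gsec {k : ℕ} {x : 𝒮.presheaf.obj (op U)} (hx : x ∈ 𝒮.deg U hU (k * m)) : Γ(P, dOpen chart hU t) :=
  ((RelProj.emb p chart U hU).appIso _).inv (scal ht hm k hx)

theorem appLE_gsec {k : ℕ} {x : 𝒮.presheaf.obj (op U)} (hx : x ∈ 𝒮.deg U hU (k * m)) :
    (RelProj.emb p chart U hU).appLE (dOpen chart hU t) (Proj.basicOpen (𝒮.deg U hU) t)
      ((RelProj.emb p chart U hU).preimage_image_eq _).ge (gsec chart hU ht hm hx) = scal ht hm k hx := by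
  rw [gsec, ← ConcreteCategory.comp_apply, Scheme.Hom.appIso_inv_appLE]
  exact ConcreteCategory.congr_hom ((Proj (𝒮.deg U hU)).presheaf.map_id _) _

theorem fres_gsec {k : ℕ} {x : 𝒮.presheaf.obj (op U)} (hx : x ∈ 𝒮.deg U hU (k * m))
    {V : (Proj (𝒮.deg U hU)).Opens} (hV : V ≤ Proj.basicOpen (𝒮.deg U hU) t) :
    fres ((RelProj.emb p chart U hU).image_mono hV) (gsec chart hU ht hm hx) =
      ((RelProj.emb p chart U hU).appIso V).inv (fres hV (scal ht hm k hx)) :=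
  (ConcreteCategory.congr_hom ((RelProj.emb p chart U hU).appIso_inv_naturality (homOfLE hV).op) _).symm

theorem gsec_eq_of_mul {k k' : ℕ} {x x' : 𝒮.presheaf.obj (op U)} (hx : x ∈ 𝒮.deg U hU (k * m))
    (hx' : x' ∈ 𝒮.deg U hU (k' * m)) (h : t ^ k' * x = t ^ k * x') :
    gsec chart hU ht hm hx = gsec chart hU ht hm hx' :=
  congrArg _ (scal_eq_of_mul ht hm hx hx' h)

theorem gsec_congr {k k' : ℕ} {x x' : 𝒮.presheaf.obj (op U)} (hx : x ∈ 𝒮.deg U hU (k * m))
    (hx' : x' ∈ 𝒮.deg U hU (k' * m)) (hk : k = k') (h : x = x') :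
    gsec chart hU ht hm hx = gsec chart hU ht hm hx' := by
  subst hk h; rfl

theorem gsec_mul {k k' : ℕ} {x x' : 𝒮.presheaf.obj (op U)} (hx : x ∈ 𝒮.deg U hU (k * m))
    (hx' : x' ∈ 𝒮.deg U hU (k' * m)) :
    gsec chart hU ht hm hx * gsec chart hU ht hm hx' =
      gsec chart hU ht hm (show x * x' ∈ 𝒮.deg U hU ((k + k') * m) by
        rw [add_mul]; exact SetLike.mul_mem_graded hx hx') :=
  ((map_mul _ _ _).symm.trans (congrArg _ (scal_mul ht hm hx hx')))

theorem gsec_add {k : ℕ} {x x' : 𝒮.presheaf.obj (op U)} (hx : x ∈ 𝒮.deg U hU (k * m))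
    (hx' : x' ∈ 𝒮.deg U hU (k * m)) :
    gsec chart hU ht hm (add_mem hx hx') = gsec chart hU ht hm hx + gsec chart hU ht hm hx' :=
  (congrArg _ (scal_add ht hm hx hx')).trans (map_add _ _ _)

theorem gsec_zero (k : ℕ) : gsec chart hU ht hm (zero_mem (𝒮.deg U hU (k * m))) = 0 :=
  (congrArg _ (scal_zero ht hm k)).trans (map_zero _)

theorem gsec_pow_self (k : ℕ) (h : t ^ k ∈ 𝒮.deg U hU (k * m)) : gsec chart hU ht hm h = 1 :=
  (congrArg _ (scal_self ht hm k)).trans (map_one _)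

theorem gsec_pow {k : ℕ} {x : 𝒮.presheaf.obj (op U)} (hx : x ∈ 𝒮.deg U hU (k * m)) :
    ∀ n : ℕ, gsec chart hU ht hm hx ^ n = gsec chart hU ht hm (show x ^ n ∈ 𝒮.deg U hU (n * k * m) by
      have := SetLike.pow_mem_graded n hx
      rwa [smul_eq_mul, ← mul_assoc] at this)
  | 0 => by
    rw [pow_zero]
    refine ((gsec_pow_self hU ht hm 0 (by rw [pow_zero, zero_mul]; exact SetLike.one_mem_graded _)).symm.trans ?_)
    exact gsec_congr hU ht hm _ _ (by simp) (by simp)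
  | n + 1 => by
    rw [pow_succ, gsec_pow hx n, gsec_mul]
    exact gsec_congr hU ht hm _ _ (by ring) (pow_succ x n).symm

theorem exists_eq_gsec (s : Γ(P, dOpen chart hU t)) :
    ∃ (k : ℕ) (x : 𝒮.presheaf.obj (op U)) (hx : x ∈ 𝒮.deg U hU (k * m)), s = gsec chart hU ht hm hx := by
  obtain ⟨k, x, hx, h⟩ := exists_scal ht hm ((RelProj.emb p chart U hU).appLE (dOpen chart hU t)
    (Proj.basicOpen (𝒮.deg U hU) t) ((RelProj.emb p chart U hU).preimage_image_eq _).ge s)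
  refine ⟨k, x, hx, dOpen_ext hU ?_⟩
  rw [appLE_gsec]
  exact h

theorem basicOpen_gsec {k : ℕ} {x : 𝒮.presheaf.obj (op U)} (hx : x ∈ 𝒮.deg U hU (k * m)) :
    P.basicOpen (gsec chart hU ht hm hx) = dOpen chart hU (t * x) := by
  rw [gsec, ← Scheme.image_basicOpen, basicOpen_scal]

theorem dOpen_mul_le_left (t t' : 𝒮.presheaf.obj (op U)) : dOpen chart hU (t * t') ≤ dOpen chart hU t :=
  (RelProj.emb p chart U hU).image_mono ((Proj.basicOpen_mul _ _ _).trans_le inf_le_left)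

theorem dOpen_mul_le_right (t t' : 𝒮.presheaf.obj (op U)) : dOpen chart hU (t * t') ≤ dOpen chart hU t' :=
  (RelProj.emb p chart U hU).image_mono ((Proj.basicOpen_mul _ _ _).trans_le inf_le_right)

theorem gsec_res_left {t' : 𝒮.presheaf.obj (op U)} {m' : ℕ} (ht' : t' ∈ 𝒮.deg U hU m') {k : ℕ}
    {x : 𝒮.presheaf.obj (op U)} (hx : x ∈ 𝒮.deg U hU (k * m)) :
    fres (dOpen_mul_le_left hU t t') (gsec chart hU ht hm hx) =
      gsec chart hU (SetLike.mul_mem_graded ht ht') (Nat.add_pos_left hm m')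
        (show x * t' ^ k ∈ 𝒮.deg U hU (k * (m + m')) by
          rw [mul_add]; exact SetLike.mul_mem_graded hx (pow_mem ht' k)) := by
  rw [fres_gsec hU ht hm hx ((Proj.basicOpen_mul _ _ _).trans_le inf_le_left)]
  refine congrArg _ (ext_val fun y => ?_)
  show Localization.mk x _ = _
  rw [scal_val, Localization.mk_eq_mk_iff, Localization.r_iff_exists]
  exact ⟨1, by simp only [OneMemClass.coe_one, one_mul, GradedRingHom.id_apply]; ring⟩

theorem gsec_res_right {t' : 𝒮.presheaf.obj (op U)} {m' : ℕ} (ht' : t' ∈ 𝒮.deg U hU m') (hm' : 0 < m') {k : ℕ}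
    {x : 𝒮.presheaf.obj (op U)} (hx : x ∈ 𝒮.deg U hU (k * m')) :
    fres (dOpen_mul_le_right hU t t') (gsec chart hU ht' hm' hx) =
      gsec chart hU (SetLike.mul_mem_graded ht ht') (Nat.add_pos_right m hm')
        (show x * t ^ k ∈ 𝒮.deg U hU (k * (m + m')) by
          rw [mul_add, add_comm]; exact SetLike.mul_mem_graded hx (pow_mem ht k)) := by
  rw [fres_gsec hU ht' hm' hx ((Proj.basicOpen_mul _ _ _).trans_le inf_le_right)]
  refine congrArg _ (ext_val fun y => ?_)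
  show Localization.mk x _ = _
  rw [scal_val, Localization.mk_eq_mk_iff, Localization.r_iff_exists]
  exact ⟨1, by simp only [OneMemClass.coe_one, one_mul, GradedRingHom.id_apply]; ring⟩

variable (hP : RelProj.IsRelProj 𝒮 p chart)
include hP

theorem gsec_restrict {V : S.Opens} (hV : IsAffineOpen V) (i : V ≤ U) {k : ℕ} {x : 𝒮.presheaf.obj (op U)}
    (hx : x ∈ 𝒮.deg U hU (k * m)) :
    fres (dOpen_res_le hP hU hV i t) (gsec chart hU ht hm hx) =
      gsec chart hV ((𝒮.res hU hV i).map_mem ht) hm ((𝒮.res hU hV i).map_mem hx) := by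
  refine dOpen_ext hV ?_
  rw [appLE_gsec, fres, ← ConcreteCategory.comp_apply, Scheme.Hom.map_appLE]
  have key : ∀ (k' : Proj (𝒮.deg V hV) ⟶ P) (_ : k' = Proj.map (𝒮.res hU hV i) (irrelevant_le_map_res 𝒮 hU hV i) ≫
      RelProj.emb p chart U hU)
      (e : Proj.basicOpen (𝒮.deg V hV) (𝒮.res hU hV i t) ≤ k' ⁻¹ᵁ dOpen chart hU t),
      k'.appLE (dOpen chart hU t) (Proj.basicOpen (𝒮.deg V hV) (𝒮.res hU hV i t)) e (gsec chart hU ht hm hx) =
        scal ((𝒮.res hU hV i).map_mem ht) hm k ((𝒮.res hU hV i).map_mem hx) := by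
    rintro k' rfl e
    refine (ConcreteCategory.congr_hom (Scheme.Hom.appLE_comp_appLE
      (Proj.map (𝒮.res hU hV i) (irrelevant_le_map_res 𝒮 hU hV i)) (RelProj.emb p chart U hU)
      (dOpen chart hU t) (Proj.basicOpen (𝒮.deg U hU) t) (Proj.basicOpen (𝒮.deg V hV) (𝒮.res hU hV i t))
      ((RelProj.emb p chart U hU).preimage_image_eq _).ge le_rfl) _).symm.trans ?_
    rw [ConcreteCategory.comp_apply, appLE_gsec, map_scal]
  exact key _ (map_res_emb' hP hU hV i).symm _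

theorem appLE_str (r : Γ(S, U)) :
    p.appLE U (dOpen chart hU t) (dOpen_le hU t) r =
      gsec chart hU ht hm (k := 0) (show (𝒮.str.app (op U)).hom r ∈ 𝒮.deg U hU (0 * m) by
        rw [zero_mul]; exact 𝒮.str_mem U hU r) := by
  refine dOpen_ext hU ?_
  rw [appLE_gsec, ← ConcreteCategory.comp_apply, Scheme.Hom.appLE_comp_appLE]
  let D := Proj.basicOpen (𝒮.deg U hU) t
  have hD : IsAffineOpen D := Proj.isAffineOpen_basicOpen _ t ht hm
  let ψ₂ : Γ(S, U) ⟶ Γ(Proj (𝒮.deg U hU), D) := 𝒮.strZero U hU ≫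
    CommRingCat.ofHom (HomogeneousLocalization.fromZeroRingHom (𝒮.deg U hU) (Submonoid.powers t)) ≫
      Proj.awayToSection (𝒮.deg U hU) t
  have h2 : ψ₂ r = scal ht hm 0 (show (𝒮.str.app (op U)).hom r ∈ 𝒮.deg U hU (0 * m) by
      rw [zero_mul]; exact 𝒮.str_mem U hU r) := by
    show Proj.awayToSection (𝒮.deg U hU) t _ = Proj.awayToSection (𝒮.deg U hU) t _
    refine congrArg (Proj.awayToSection (𝒮.deg U hU) t) (HomogeneousLocalization.val_injective _ ?_)
    rw [HomogeneousLocalization.Away.val_mk]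
    show (HomogeneousLocalization.mk _).val = _
    rw [HomogeneousLocalization.val_mk]
    simp
    rfl
  rw [← h2]
  refine ConcreteCategory.congr_hom (EGA73.ProjMor.toSpecΓ_ext ?_) r
  rw [← cancel_mono hU.fromSpec]
  simp only [Category.assoc]
  rw [IsAffineOpen.SpecMap_appLE_fromSpec _ hU hD, ← Category.assoc, hD.toSpecΓ_fromSpec, emb_p hP]
  simp only [ψ₂, Spec.map_comp, Category.assoc]
  show (Proj.basicOpen (𝒮.deg U hU) t).ι ≫ _ = _
  have hι : (Proj.basicOpen (𝒮.deg U hU) t).ι = (Proj.basicOpen (𝒮.deg U hU) t).toSpecΓ ≫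
      Spec.map (Proj.awayToSection (𝒮.deg U hU) t) ≫ Proj.awayι (𝒮.deg U hU) t ht hm := by
    rw [← Proj.basicOpenIsoSpec_inv_ι (𝒮.deg U hU) t ht hm, ← Category.assoc]
    rw [show (Proj.basicOpen (𝒮.deg U hU) t).toSpecΓ ≫ Spec.map (Proj.awayToSection (𝒮.deg U hU) t) =
      (Proj.basicOpenIsoSpec (𝒮.deg U hU) t ht hm).hom from
        (Proj.basicOpenIsoSpec_hom (𝒮.deg U hU) t ht hm).symm, Iso.hom_inv_id_assoc]
  rw [hι]
  simp only [Category.assoc]
  rw [Proj.awayι_toSpecZero_assoc]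

end Groth.Agent.Div89.SubProj

end
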